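import Cfsg.Agent.H713.Two.Sing_m3
import Cfsg.Agent.H113.PSU.Rank3_m3
import Cfsg.Agent.LThreeM.FiTwo
import Cfsg.Agent.FastGrp
import Cfsg.Agent.Prune
set_option linter.all false
prune_inst 0x7f00000000000000000000000000000000000000000000000000000000000000000000000000000000000000000000000000000000000000000000000000000000000000000000000000000000000000003fffffffffffffffffffffffffffbeffbdffffffff
open scoped Cfsg.Agent.FastGrp

/-!
# Rows of S4897 from the rank 3 permutation characters of the Fischer groups (helper187)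

* `r3` : the rank 3 structure of a class of 3-transpositions, for a subgroup `N` with
  the same orbits on pairs
* `chars` : the two irreducible characters of `N` and their degrees
* `rowT_of` : `RowT` from two irreducible characters of different degrees with three singular elements each
* `autNC_inv` : the set `{a, x, x⁻¹}`
* `not_real` : no element inverts `x` if `|N(<x>) : C(<x>)|` is odd
-/

set_option autoImplicit false
set_option linter.unusedSectionVars false

namespace Cfsg.Agent.H187.FiTwoZ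

open Cfsg Cfsg.Agent.Characters.Core Cfsg.Agent.Fischer.Abstract Cfsg.Agent.LThreeM.SrgFix
open Cfsg.Agent.H690.Spor.RankThree Cfsg.Agent.H504.TwoZ Cfsg.Agent.H504.ZeroTI Cfsg.Agent.H504.Zeros

section rank

variable {G X : Type*} [Group G] [MulAction G X]

/-- the subgroup `N` has the same orbits on pairs -/
def Same (N : Subgroup G) (X : Type*) [MulAction G X] : Prop :=
  ∀ (g : G) (x y : X), ∃ h ∈ N, h • x = g • x ∧ h • y = g • y

theorem same_top : Same (⊤ : Subgroup G) X := fun g _ _ => ⟨g, Subgroup.mem_top g, rfl, rfl⟩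

/-- `N` of index 2 does not contain the transpositions, any two points have a common neighbour -/
theorem same_of (R : Rank3 G X) (N : Subgroup G) (hN : N.index = 2) (ht : ∀ x, R.t x ∉ N)
    (hc : ∀ x y, ∃ z, R.Com z x ∧ R.Com z y) : Same N X := by
  intro g x y
  by_cases hg : g ∈ N
  · exact ⟨g, hg, rfl, rfl⟩
  obtain ⟨z, h1, h2⟩ := hc x y
  refine ⟨g * R.t z, ?_, ?_, ?_⟩
  · rw [Subgroup.mul_mem_iff_of_index_two hN]
    exact iff_of_false hg (ht z)
  · rw [mul_smul]
    congr 1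
    exact (R.smul_eq_iff_comm _ _).2 h1
  · rw [mul_smul]
    congr 1
    exact (R.smul_eq_iff_comm _ _).2 h2

theorem r3 (R : Rank3 G X) (N : Subgroup G) (hN : Same N X) {k l : ℕ} (hk : (nb R R.x0).ncard = k)
    (hn : Nat.card X = 1 + k + l) (hk0 : 0 < k) (hl0 : 0 < l) : R3 N X (Adj R) k l where
  trans := ⟨fun x y => by
    obtain ⟨g, hg⟩ := R.trans x
    obtain ⟨g', hg'⟩ := R.trans y
    obtain ⟨h, hh, h1, -⟩ := hN (g' * g⁻¹) x x
    refine ⟨⟨h, hh⟩, ?_⟩
    show h • x = y
    rw [h1, ← hg, ← hg', mul_smul, inv_smul_smul]⟩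
  symm := fun x y h => adj_symm R h
  irr := fun x h => h.1 rfl
  inv := fun g x y h => (adj_smul R (g : G) x y).2 h
  one := fun x y x' y' h h' => by
    obtain ⟨g, hg, hg2⟩ := exists_adj R h
    obtain ⟨g', hg', hg2'⟩ := exists_adj R h'
    obtain ⟨u, hu, h1, h2⟩ := hN (g' * g⁻¹) x y
    refine ⟨⟨u, hu⟩, ?_, ?_⟩
    · show u • x = x'
      rw [h1, ← hg, ← hg', mul_smul, inv_smul_smul]
    · show u • y = y'
      rw [h2, ← hg2, ← hg2', mul_smul, inv_smul_smul]
  two := fun x y x' y' hne h hne' h' => by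
    have h0 : ¬ R.Com x y := fun hc => h ⟨hne, hc⟩
    have h0' : ¬ R.Com x' y' := fun hc => h' ⟨hne', hc⟩
    obtain ⟨g, hg, hg2⟩ := exists_ncom R h0
    obtain ⟨g', hg', hg2'⟩ := exists_ncom R h0'
    obtain ⟨u, hu, h1, h2⟩ := hN (g' * g⁻¹) x y
    refine ⟨⟨u, hu⟩, ?_, ?_⟩
    · show u • x = x'
      rw [h1, ← hg, ← hg', mul_smul, inv_smul_smul]
    · show u • y = y'
      rw [h2, ← hg2, ← hg2', mul_smul, inv_smul_smul]
  cardk := fun x => by
    rw [← hk, ← ncard_nb R x]
    rfl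
  k0 := hk0
  l0 := hl0
  cardn := hn

/-- **the two irreducible characters** -/
theorem chars [Finite G] (R : Rank3 G X) (N : Subgroup G) (hN : Same N X) {k l m : ℕ}
    (hk : (nb R R.x0).ncard = k) (hm : (cn R R.x0 R.b).ncard = m)
    (hn : Nat.card X = 1 + k + l) (hk0 : 0 < k) (hl0 : 0 < l) {r s : ℤ} (hrs : r ≠ s) (h2 : r * s = m - k)
    (h1 : (k : ℤ) * (r + s + m) = k * k - k - l * m) {f g : ℕ}
    (hf : (f : ℤ) * (r - s) = -(s * (k + l) + k)) (hg : (g : ℤ) * (r - s) = r * (k + l) + k) :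
    ∃ χ₁ χ₂ : IrrCharacter N, charDegree (χ₁ : N → ℂ) = f ∧ charDegree (χ₂ : N → ℂ) = g := by
  classical
  have hfX : Finite X := Nat.finite_of_card_ne_zero (by omega)
  have := Fintype.ofFinite X
  have hb : R3.com (Adj R) R.x0 R.b = m := by
    rw [← hm]
    refine Nat.card_congr (Equiv.subtypeEquivRight fun z => ?_)
    exact ⟨fun h => ⟨h.1, adj_symm R h.2⟩, fun h => ⟨h.1, adj_symm R h.2⟩⟩
  obtain ⟨χ₁, χ₂, f', g', e1, e2, e3, e4, -, -⟩ := Cfsg.Agent.H113.PSU.Rank3.frame_exact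
    (r3 R N hN hk hn hk0 hl0) R.b_ne_x0.symm (fun h => R.not_com_x0_b h.2) hb hrs h2 h1
  have hd : r - s ≠ 0 := sub_ne_zero.2 hrs
  have ef : f' = f := by
    have := mul_right_cancel₀ hd (e3.trans hf.symm)
    exact_mod_cast this
  have eg : g' = g := by
    have := mul_right_cancel₀ hd (e4.trans hg.symm)
    exact_mod_cast this
  exact ⟨χ₁, χ₂, (Cfsg.Agent.Blocks.Basic.charDegree_of_eq e1).trans ef,
    (Cfsg.Agent.Blocks.Basic.charDegree_of_eq e2).trans eg⟩

theorem chars_top [Finite G] (R : Rank3 G X) {k l m : ℕ}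
    (hk : (nb R R.x0).ncard = k) (hm : (cn R R.x0 R.b).ncard = m)
    (hn : Nat.card X = 1 + k + l) (hk0 : 0 < k) (hl0 : 0 < l) {r s : ℤ} (hrs : r ≠ s) (h2 : r * s = m - k)
    (h1 : (k : ℤ) * (r + s + m) = k * k - k - l * m) {f g : ℕ}
    (hf : (f : ℤ) * (r - s) = -(s * (k + l) + k)) (hg : (g : ℤ) * (r - s) = r * (k + l) + k) :
    ∃ χ₁ χ₂ : IrrCharacter G, charDegree (χ₁ : G → ℂ) = f ∧ charDegree (χ₂ : G → ℂ) = g := by
  obtain ⟨χ₁, χ₂, e1, e2⟩ := chars R ⊤ same_top hk hm hn hk0 hl0 hrs h2 h1 hf hg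
  let e : G ≃* (⊤ : Subgroup G) := Subgroup.topEquiv.symm
  refine ⟨⟨(χ₁ : _ → ℂ) ∘ e, isIrr_comp (e : G →* _) e.surjective χ₁.2⟩,
    ⟨(χ₂ : _ → ℂ) ∘ e, isIrr_comp (e : G →* _) e.surjective χ₂.2⟩, ?_, ?_⟩
  · show charDegree ((χ₁ : _ → ℂ) ∘ e) = f
    rw [charDegree_comp, e1]
  · show charDegree ((χ₂ : _ → ℂ) ∘ e) = g
    rw [charDegree_comp, e2]

end rank

section rows

/-- `x` is singular for a prime for which `θ` has defect zero -/
def Sing {S : Type*} [Group S] (θ : S → ℂ) (x : S) : Prop :=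
  ∃ p : ℕ, p.Prime ∧ p ∣ orderOf x ∧ (charDegree θ).factorization p = (Nat.card S).factorization p

theorem Sing.zero {S : Type*} [Group S] [Finite S] {θ : IrrCharacter S} {x : S} (h : Sing (θ : S → ℂ) x)
    (φ : MulAut S) : (θ : S → ℂ) (φ x) = 0 := by
  obtain ⟨p, hp, h1, h2⟩ := h
  have : Fact p.Prime := ⟨hp⟩
  exact dz_zero h2 h1 φ

theorem rowT_of {S : Type} [Group S] [Finite S] {θ₁ θ₂ : IrrCharacter S}
    (hne : charDegree (θ₁ : S → ℂ) ≠ charDegree (θ₂ : S → ℂ)) (s t : Finset S) (hs : AutNC s) (ht : AutNC t)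
    (h1 : ∀ x ∈ s, Sing (θ₁ : S → ℂ) x) (h2 : ∀ x ∈ t, Sing (θ₂ : S → ℂ) x) (hs3 : 3 ≤ s.card)
    (ht3 : 3 ≤ t.card) : RowT S := by
  constructor
  · left
    refine two_of_zeros (χ := θ₁) (ψ := θ₂) ?_ s t hs.nonConj ht.nonConj ?_ ?_ hs3 ht3
    · rintro rfl
      exact hne rfl
    · intro x hx
      exact (h1 x hx).zero 1
    · intro x hx
      exact (h2 x hx).zero 1
  · rintro G _ _ N _ ⟨e⟩ - - -
    left
    refine two_of_over N e (θ₁ := θ₁) (θ₂ := θ₂) ?_ s t hs ht (fun x hx φ => (h1 x hx).zero φ)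
      (fun x hx φ => (h2 x hx).zero φ) hs3 ht3
    intro φ h
    apply hne
    rw [h, charDegree_comp]

/-- `{a, x, x⁻¹}` -/
theorem autNC_inv {S : Type*} [Group S] [DecidableEq S] {a x : S} (h0 : orderOf a ≠ orderOf x)
    (hx : ∀ φ : MulAut S, φ x ≠ x⁻¹) : AutNC ({a, x, x⁻¹} : Finset S) ∧ ({a, x, x⁻¹} : Finset S).card = 3 := by
  have h1 : x ≠ x⁻¹ := fun h => hx 1 h
  have h2 : a ≠ x := fun h => h0 (by rw [h])
  have h3 : a ≠ x⁻¹ := fun h => h0 (by rw [h, orderOf_inv])
  constructor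
  · intro g hg h hh φ hφ
    have ho : orderOf g = orderOf h := by rw [← hφ, MulEquiv.orderOf_eq]
    simp only [Finset.mem_insert, Finset.mem_singleton] at hg hh
    rcases hg with rfl | rfl | rfl <;> rcases hh with rfl | rfl | rfl
    · rfl
    · exact absurd ho h0
    · rw [orderOf_inv] at ho
      exact absurd ho h0
    · exact absurd ho.symm h0
    · rfl
    · exact absurd hφ (hx φ)
    · rw [orderOf_inv] at ho
      exact absurd ho.symm h0
    · exfalso
      apply hx φ
      rw [map_inv] at hφ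
      rw [← inv_inv (φ _), hφ]
    · rfl
  · rw [Finset.card_insert_of_notMem, Finset.card_insert_of_notMem, Finset.card_singleton]
    · rwa [Finset.mem_singleton]
    · rw [Finset.mem_insert, Finset.mem_singleton]
      push Not
      exact ⟨h2, h3⟩

theorem norm_le {G : Type*} [Group G] (x : G) : Subgroup.normalizer (Subgroup.zpowers x : Set G) ≤
    Subgroup.normalizer ((Subgroup.centralizer (Subgroup.zpowers x : Set G) : Subgroup G) : Set G) := by
  have key : ∀ g ∈ Subgroup.normalizer (Subgroup.zpowers x : Set G), ∀ y ∈ Subgroup.centralizer (Subgroup.zpowers x : Set G),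
      g * y * g⁻¹ ∈ Subgroup.centralizer (Subgroup.zpowers x : Set G) := by
    intro g hg y hy
    rw [Subgroup.mem_centralizer_iff] at hy ⊢
    intro z hz
    have h1 : g⁻¹ * z * g ∈ Subgroup.zpowers x := by
      rw [Subgroup.mem_normalizer_iff] at hg
      rw [hg]
      have : g * (g⁻¹ * z * g) * g⁻¹ = z := by group
      rw [this]
      exact hz
    have h2 := hy _ h1
    calc z * (g * y * g⁻¹) = g * ((g⁻¹ * z * g) * y) * g⁻¹ := by group
      _ = g * (y * (g⁻¹ * z * g)) * g⁻¹ := by rw [h2]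
      _ = g * y * g⁻¹ * z := by group
  intro g hg
  rw [Subgroup.mem_normalizer_iff]
  intro y
  constructor
  · exact key g hg y
  · intro hy
    have h1 := key g⁻¹ (Subgroup.inv_mem _ hg) _ hy
    have : g⁻¹ * (g * y * g⁻¹) * g⁻¹⁻¹ = y := by group
    rwa [this] at h1

/-- no element inverts `x` if `|N(<x>) : C(<x>)|` is odd -/
theorem not_real {G : Type*} [Group G] [Finite G] {x : G} (h2 : ¬ orderOf x ∣ 2) {c m : ℕ}
    (hN : Nat.card (Subgroup.normalizer (Subgroup.zpowers x : Set G)) = m * c)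
    (hC : Nat.card (Subgroup.centralizer (Subgroup.zpowers x : Set G)) = c) (hm : Odd m) (g : G)
    (hg : g * x * g⁻¹ = x⁻¹) : False := by
  set N := Subgroup.normalizer (Subgroup.zpowers x : Set G) with hNdef
  set C := Subgroup.centralizer (Subgroup.zpowers x : Set G) with hCdef
  have hCN : C ≤ N := Subgroup.centralizer_le_normalizer _
  have hgN : g ∈ N := by
    have h3 : (Subgroup.zpowers x).map (MulAut.conj g).toMonoidHom = Subgroup.zpowers x := by
      rw [MonoidHom.map_zpowers]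
      show Subgroup.zpowers (g * x * g⁻¹) = _
      rw [hg, Subgroup.zpowers_inv]
    rw [hNdef, Subgroup.mem_normalizer_iff]
    intro y
    constructor
    · intro hy
      have : g * y * g⁻¹ ∈ (Subgroup.zpowers x).map (MulAut.conj g).toMonoidHom := ⟨y, hy, rfl⟩
      rw [h3] at this
      exact this
    · intro hy
      have h4 : g * y * g⁻¹ ∈ (Subgroup.zpowers x).map (MulAut.conj g).toMonoidHom := by
        rw [h3]; exact hy
      obtain ⟨z, hz, hzy⟩ := h4
      have : z = y := (MulAut.conj g).injective hzy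
      rw [← this]
      exact hz
  have hg2 : g * g ∈ C := by
    rw [hCdef, Subgroup.mem_centralizer_iff]
    intro y hy
    obtain ⟨n, rfl⟩ := Subgroup.mem_zpowers_iff.1 (show y ∈ Subgroup.zpowers x from hy)
    have h5 : (g * g) * x * (g * g)⁻¹ = x := by
      have : (g * g) * x * (g * g)⁻¹ = g * (g * x * g⁻¹) * g⁻¹ := by group
      rw [this, hg]
      have : g * x⁻¹ * g⁻¹ = (g * x * g⁻¹)⁻¹ := by group
      rw [this, hg, inv_inv]
    have h6 : Commute (g * g) x := by
      show g * g * x = x * (g * g)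
      rw [← mul_inv_eq_iff_eq_mul]
      exact h5
    exact ((h6.zpow_right n).symm).eq
  have hgC : g ∉ C := by
    intro h
    have h6 := Subgroup.mem_centralizer_iff.1 h x (Subgroup.mem_zpowers x)
    have h7 : x = x⁻¹ := by
      rw [← hg, ← h6]
      group
    apply h2
    apply orderOf_dvd_of_pow_eq_one
    rw [pow_two]
    nth_rewrite 2 [h7]
    exact mul_inv_cancel x
  have hcN : Nat.card (C.subgroupOf N) = c := by
    rw [← hC]
    exact Nat.card_congr (Subgroup.subgroupOfEquivOfLe hCN).toEquiv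
  have hnormal : (C.subgroupOf N).Normal := by
    refine (Subgroup.normal_subgroupOf_iff_le_normalizer hCN).2 ?_
    exact norm_le x
  have hidx : (C.subgroupOf N).index = m := by
    have h3 := (C.subgroupOf N).card_mul_index
    rw [hcN, hN] at h3
    have hc0 : 0 < c := by rw [← hC]; exact Nat.card_pos
    have : c * (C.subgroupOf N).index = c * m := by rw [h3, mul_comm]
    exact Nat.eq_of_mul_eq_mul_left hc0 this
  let q : N ⧸ C.subgroupOf N := ((⟨g, hgN⟩ : N) : N ⧸ C.subgroupOf N)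
  have hq2 : q ^ 2 = 1 := by
    show ((⟨g, hgN⟩ ^ 2 : N) : N ⧸ C.subgroupOf N) = 1
    rw [QuotientGroup.eq_one_iff, Subgroup.mem_subgroupOf]
    show g ^ 2 ∈ C
    rw [pow_two]
    exact hg2
  have hqm : q ^ m = 1 := by
    rw [← hidx]
    exact pow_card_eq_one'
  have hq1 : q = 1 := by
    have h3 : orderOf q ∣ Nat.gcd 2 m := Nat.dvd_gcd (orderOf_dvd_of_pow_eq_one hq2) (orderOf_dvd_of_pow_eq_one hqm)
    have h4 : Nat.gcd 2 m = 1 := by
      have : Nat.Coprime 2 m := (Nat.coprime_two_left).2 hm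
      exact this
    rw [h4, Nat.dvd_one] at h3
    exact orderOf_eq_one_iff.1 h3
  apply hgC
  have h3 : (⟨g, hgN⟩ : N) ∈ C.subgroupOf N := (QuotientGroup.eq_one_iff _).1 hq1
  exact h3

end rows

end Cfsg.Agent.H187.FiTwoZ
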